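import Cfsg.Agent.SporRec.G24Rel
import Cfsg.Agent.J2.HundredGens
import Cfsg.Agent.S1619
set_option linter.all false

-- part: H899/Perm416
section
/-!
Six permutations of 416 points satisfying the relators `R6` (the action of `G₂(4)` on the cosets of `J₂`),
given by packed tables with 9 bits per entry.
-/

set_option autoImplicit false

namespace Cfsg.Agent.H899.Perm416

open Cfsg.Agent.SporRec.G24Rel

/-- Entry `i` of a packed table (9 bits per entry). -/
def look (t i : ℕ) : ℕ := Nat.land (Nat.shiftRight t (Nat.mul 9 i)) 511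

def T0 : ℕ := 0xcfe133b67aa66b3383acd62ab94c9e06ed77bae0ad568c5e2ad36fb75aeaf9ecc63b255faf576b574b9dcac371c86471f7cbddeaf151c461edb6cc3637138cce596cd64b1d8af356c05fefd5caddf72f96c2d832b9ba854ae1538bc622ca94bd06813f8a4554ca786c329549a44a253009dcea733852a9146fe7fa61329497a225b2c59c827b3e8d405aab45aad96f2a79bd11cae7549d8f4ea7d368d4771b91789d8743e874275aad5ae883c160cee30a164d3c99cd1e4783b9d9049e7b3dd5f1e8fbf560c56341198cd85c6c590829964b51289a49aed64d26d62b23fab1207c70b824ab85cae976c461b09d8ed3118cc8658cbbde0d067b38b670379b8db1168b49a6d490c8a472495b71baf17ac7212da8523e9879a25166f369a9c5064823be2207a6f37e6332a5a25153048b8926d955474fa7b40a552d2e3f19e043a50be516586da1d1ad84627150fc7dbe88c452213d44c05faf97a4221938925c4314590c96532e063b1e0f47c6860b95cc802b9586e36738cccc4a391a882401f940d2a04f9d4e873359b09a4c25974bc5f3021070392a9506835290c84e30168ac5ee917038262818884401c0d8684c250e8643e24118883c18030542c0b1483c2011090a8180d0a02414020285c0e03020200200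

def T1 : ℕ := 0xa8e52e564cdd7f3199bde0f2b9eb064b1167c3e3aff8cbb5d6a791c7dfb0985cb5eaf354c6e1af97dcbe0b0378bbe2f1574b9e76cd68b7dbad56bb65b6d370c85c6c79cb2d86c593cd57abb59ad56eb958abd56ad80c4d433f52a5d32694ea7d128b3a9ccd6934a9847568b589ac53b319bd228f369dce28d4d994ce7943832b1b4e25d4a654b976b156cbf601c8e69e7dc36851b8e3b9ff0281b359d129fc519ef67cbea3d0a49432110918cbc58ca8bc6201018c99df8fd8fc3a1ef77c441de9069b49e0f17ac6a4ee575b99d2e7743a9d8e471cb0d66c5027cee78574b5b0d96a355acd779bc9a0d188c562ccb6641190c96331e4c5e2eb058523922ed78bd5f4ae50b75c4968141592ce7c994c36d0f2e47a352a9a50a888240342994edf6f4827a9b4e2a160af4b25d527c2bc2cb0f4559f5546a348f0768856968be64379d0f2802a9491c943d1ed02dc6e9d4ec8290c88e0714192896e070a3116a37f194cc843118cc06142b11865b2e2186e91498d0fe54199f8703d2111c9a4c369b89049271148c432213d4aa41f0fca08a448e474512c8d46c56298ba0e1f100c843050d09046160f03c202a148885a2f1809c281b0e0ac32070b8a00c1d060442425130341c130582810090c0540805018040400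

def T2 : ℕ := 0xcfe133b8ca866b338ecb65f2b93ca64b2191be663139cc5e2b1b70c361ec19ec160f037fc05f6fd8fbd5eef179bb5dee975b95cec388a8daedb6cb75a6d567b4596cd64b158ee385af57eb55cadd76b159ab55eab53aa54adf9ba6d069eb2994629149a351e6f0087c1a9d3fa04f67ca79d4ee7139a2cd66d339a52dbef783b8a592d922de512975216272b9148e41218f47c62f58d46ccb4a8b45e291592c46247aa1c361d0585c26142c97d0a18c665c0605447f3fd60a87d3edf0f99825238f37a3c5e4d0773bdd8ed75c9dd0e973b95ccbc6acb9b2e098b75bca94b2b1c28c48359c6d36a345a4f06733d98cd81b2594c76441188c56130cb6705f2fd7ae45d2ed70b9952d56cb35a53136fd572bd56da56a3db8fc9e2954ca35213d40a13aa09389d58a6534974c36d02f648a2126d75509d0ed84522cfe92469464c60242792a35449f4fc7b3e440f0793b1dd3e733a1c4e4c0371bcda4d351aca03e3319e326332184c4842f17cb85d60964b4342b15c7254298790c695110cd84b2612494832311c884527104843f201a0783d1d0ecaa371c0d900580c8c23a32158b45d081784852284707448251108c3e1c109484c200d06c661803828120d098a820110703c280b060582a040b8140c080100c0200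

def T3 : ℕ := 0x96662c565cae4f299ebee173799cd63b1f71c8e4b0cebc562e5d87c46372d83c26070556bf5ff2f7bbe5e6f577bc5d6ed73ba5872092b75bed96db55ad110bb359f3963b2676e55fb0576bd5bae566b557ac602a955564b5c4daa753e8d4ba65269547a45368945a150e81418a2ce41339c4e6753b9b4de69359e4c6651d97e26a59f944a6552b8d31d712392486453d7ec2a61098449e03178c4562d3f8944da2f88743e190db447a391b83c1a0acc8140e32ff8028e3efb7e3e5f5107b3dde2ab793cdeaef783b5dcc2c63a1d2ea7339d82e372545c0e16f37db8dd43d41548d6b35da8d56934e22cf683359d046532d90c9933158cc3623b1cabf602f57cbb5e2e575255b2dd68b59f2c564af582b55d537a3652e9c5329d48a57f285449f502753ca84d26d309954a552c8e1a5c06a8f48251b08b4622515696d970c266389d8f6543f1fcf87d409e4f4773c208e875391cd066f381b4dc6b361a4d46734210c8653118d0a5f30174bc862d16ca6362b15ca4802c954743f22124984d2512c9c47241148c4f2110c8041280f47c3b1e14470391996122931b8a06218168585e2c0a8a45432138944c231205c4021038780a1b0e0183230110b8560407044240f0804c180d0182812080f8683a14058080200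

def T4 : ℕ := 0xa9597156ab7e2ed96bbedfb2563b1657017fbd5bacf69cd676d154c160ee366c361eab91c865b2f7bbe63ead57af57ee573ba5d70b53cde3ac999cc6731989c6e133d6dca64ec161bb5deb15bae566b55dbc5e70388b867ea1518b5062eb466c628d47a45266b02868b69d158a4a651269c4e6753b9b4de8b0365b318b1e19160ae566e2c67d3d57cf222a96130dbcdd7bcc0431b8e3d4c74aa6d3e813f8944e4ad38743e862f1b080381b180b856c69a512010131185e4d27c3e5f4fb8fbce34947b3f56099773bd30972a2b8442314b6d2ce3720d1186d62486412b7324db0d93daf5787a883f1509a5b2d6973299b1d90c96541262df9148d80c14aa05acd53c9e13a9c4db3d9d4c592ce54f193ba848911284648d142a8d48a5531a0be5e399dd72b85bb41e0ed763957ef46d0d5587c0809824e1371bcb480150ed4e661e1d97c882c8381e906bb5176ba4f208e8754f974b85b4522dc04b351ac94a230210c8658cbfdfc6750a80e47138224ff2e96cb06eeb0983474491f10c984d361a4a03d221148c47270fc80412113c90834314470392ac2d24e2064bc3f078641a841a82a1dce280ea3956ad743a63b0a188504f09840b016180b8582a1e29a35548f3e9f8a4330c8281208038180a04018080200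

def T5 : ℕ := 0xa91c2c85a70e67346f3a1cdc193ca1b4be5e301b92c59b65b5b67b40a54e4c05faf97aa15027cea843319cd03e1e8f0763a28a18ba7c4622f158b45224fee672b04b79db158cb871419208f5bae1188a4427a89acd74867db0d98bc622c9b4d506813f8a4564ab886c329549a44a650d39d4ee713989c4a22d169265311b83a1e592d902ce7d3d7b4428b219148e492b7ac72111e983dd3d4ea7d368d479bcda6b268743e874273c26151d97c160cef542713ab95d2ede2cb6532590c78d49e3eae57ac1facc823198ac429a504e8e85da2cea452a3737954baa5b8ddc4aaaa151aa5554ca79e4ce68cd6733da0f07e3edf4f97c3b9daec6130ecd84c1e0b02a37f3fe01445a2d56cb7952c564f279bd1568f56b69bd036a355c6e45e55b017fbf4660302a652e65316fe370cea089f42153563a1c56fb75aed47e975c8f57caf9970e0eb4a212570c4214c26231992fb97cb616c19ecc63b246c359a8d379bd5ed04763b9e0f38fc8e42e361b2e73182a2b15caa137594ae650ab9389a4c25928935eaed6ab3582190882401fde2ef76badd072381b8a41e12198c05832168ac5e31171606c187488c482513074361c0d07844201087c3228028542c142a0d126911aa001a0c0582414080301c2e04018080001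


/-- the six tables -/
def tab : Fin 6 → ℕ
  | 0 => T0
  | 1 => T1
  | 2 => T2
  | 3 => T3
  | 4 => T4
  | 5 => T5

/-- `f` holds on `[s, s + 2^d)`. -/
def allP (f : ℕ → Bool) (d : ℕ) : ℕ → Bool :=
  Nat.rec (motive := fun _ => ℕ → Bool) (fun s => f s)
    (fun k ih s => Bool.and (ih s) (ih (Nat.add s (Nat.pow 2 k)))) d

theorem allP_zero (f : ℕ → Bool) (s : ℕ) : allP f 0 s = f s := rfl

theorem allP_succ (f : ℕ → Bool) (d s : ℕ) :
    allP f (d + 1) s = (allP f d s && allP f d (s + 2 ^ d)) := rfl

theorem allP_spec (f : ℕ → Bool) (d : ℕ) : ∀ s, allP f d s = true →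
    ∀ i, s ≤ i → i < s + 2 ^ d → f i = true := by
  induction d with
  | zero =>
    intro s h i h1 h2
    have : i = s := by simp at h2; omega
    subst this
    exact h
  | succ d ih =>
    intro s h i h1 h2
    rw [allP_succ, Bool.and_eq_true] at h
    rw [pow_succ] at h2
    by_cases h3 : i < s + 2 ^ d
    · exact ih s h.1 i h1 h3
    · exact ih _ h.2 i (by omega) (by omega)

/-- `f` holds below 416 -/
def allQ (f : ℕ → Bool) : Bool := allP (fun i => Bool.or (Nat.ble 416 i) (f i)) 9 0

theorem allQ_spec {f : ℕ → Bool} (h : allQ f = true) (i : ℕ) (hi : i < 416) : f i = true := by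
  have h1 := allP_spec _ 9 0 h i (Nat.zero_le _) (lt_of_lt_of_le hi (by norm_num))
  rw [Bool.or_eq_true] at h1
  rcases h1 with h1 | h1
  · exact absurd (Nat.le_of_ble_eq_true h1) (by omega)
  · exact h1

theorem tab_lt (k : Fin 6) : ∀ i < 416, look (tab k) i < 416 := by
  intro i hi
  have h : ∀ k : Fin 6, allQ (fun i => Nat.blt (look (tab k) i) 416) = true := by decide +kernel
  have := allQ_spec (h k) i hi
  exact Nat.le_of_ble_eq_true this

theorem tab_inv (k : Fin 6) : ∀ i < 416, look (tab k) (look (tab k) i) = i := by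
  intro i hi
  have h : ∀ k : Fin 6, allQ (fun i => Nat.beq (look (tab k) (look (tab k) i)) i) = true := by
    decide +kernel
  exact Nat.eq_of_beq_eq_true (allQ_spec (h k) i hi)

/-- the function on points -/
def pf (k : Fin 6) (i : Fin 416) : Fin 416 := ⟨look (tab k) i, tab_lt k i i.isLt⟩

theorem pf_inv (k : Fin 6) : Function.Involutive (pf k) := by
  intro i
  apply Fin.ext
  exact tab_inv k i i.isLt

/-- The six permutations. -/
def P (k : Fin 6) : Equiv.Perm (Fin 416) := (pf_inv k).toPerm

theorem P_apply (k : Fin 6) (i : Fin 416) : ((P k i : Fin 416) : ℕ) = look (tab k) i := rfl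

/-- act by a word, last letter first -/
def wk (w : List (Fin 6)) (i : ℕ) : ℕ := w.foldr (fun k j => look (tab k) j) i

/-- the permutation of a word -/
def E (w : List (Fin 6)) : Equiv.Perm (Fin 416) := (w.map P).prod

theorem E_nil : E [] = 1 := rfl

theorem E_cons (k : Fin 6) (w : List (Fin 6)) : E (k :: w) = P k * E w := by
  simp [E]

theorem E_append (u w : List (Fin 6)) : E (u ++ w) = E u * E w := by
  simp [E]

theorem E_apply (w : List (Fin 6)) (i : Fin 416) : ((E w i : Fin 416) : ℕ) = wk w i := by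
  induction w with
  | nil => rfl
  | cons k w ih =>
    rw [E_cons, Equiv.Perm.mul_apply, P_apply, ih]
    rfl

theorem P_sq (k : Fin 6) : P k * P k = 1 := by
  ext i
  rw [Equiv.Perm.mul_apply]
  exact congrArg Fin.val (pf_inv k i)

theorem P_inv (k : Fin 6) : (P k)⁻¹ = P k := (eq_inv_of_mul_eq_one_left (P_sq k)).symm

theorem E_inv (w : List (Fin 6)) : (E w)⁻¹ = E w.reverse := by
  induction w with
  | nil => simp [E]
  | cons k w ih =>
    rw [E_cons, mul_inv_rev, ih, P_inv, List.reverse_cons, E_append]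
    simp [E]

/-- equality of two words as permutations -/
def chk (u w : List (Fin 6)) : Bool := allQ fun i => Nat.beq (wk u i) (wk w i)

theorem E_eq {u w : List (Fin 6)} (h : chk u w = true) : E u = E w := by
  ext i
  rw [E_apply, E_apply]
  exact Nat.eq_of_beq_eq_true (allQ_spec h i i.isLt)

theorem rel_chk : R6.all (fun w => chk w []) = true := by decide +kernel

/-- the permutations satisfy the relators -/
theorem P_rel : ∀ w ∈ R6, (w.map P).prod = 1 := by
  intro w hw
  exact E_eq (u := w) (w := []) (List.all_eq_true.1 rel_chk w hw)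

end Cfsg.Agent.H899.Perm416
end

-- part: H899/J2Words
section
/-!
Words in the first five permutations of degree 416 which satisfy the relations of `J2Type.Pres`; the
subgroup generated by the five permutations has order 604800.
-/

set_option autoImplicit false

namespace Cfsg.Agent.H899.J2Words

open Cfsg.Agent.H899.Perm416 Cfsg.Agent.J2Type.Pres Cfsg.Agent.J2Type.PresIso

def wV : List (Fin 6) := [3]
def wX : List (Fin 6) := [0, 1, 0, 1, 2, 4, 3, 2, 1, 0, 3, 2, 1, 0, 1, 3, 2, 1, 3, 2, 4]
def wA : List (Fin 6) := [3, 4, 3]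
def wZ : List (Fin 6) := [1]
def wY : List (Fin 6) := [0, 4, 3, 2, 1, 0, 3, 4]
def wL : List (Fin 6) := [4, 3, 2, 3, 4]

/-- Words satisfy the relations. -/
theorem rels_perm : Rels (E wV) (E wX) (E wA) (E wZ) (E wY) (E wL) where
  v2 := by rw [← E_append, ← E_nil]; exact E_eq (by decide +kernel)
  x3 := by simp only [pow_succ, pow_zero, one_mul]; rw [← E_append, ← E_append, ← E_nil]; exact E_eq (by decide +kernel)
  vx := by simp only [pow_succ, pow_zero, one_mul]; simp only [← E_append]; rw [← E_nil]; exact E_eq (by decide +kernel)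
  a2 := by simp only [← E_append]; rw [← E_nil]; exact E_eq (by decide +kernel)
  xa := by simp only [pow_succ, pow_zero, one_mul]; simp only [← E_append]; rw [← E_nil]; exact E_eq (by decide +kernel)
  va := by simp only [pow_succ, pow_zero, one_mul]; simp only [← E_append]; rw [← E_nil]; exact E_eq (by decide +kernel)
  z2 := by simp only [← E_append]; rw [← E_nil]; exact E_eq (by decide +kernel)
  y3 := by simp only [pow_succ, pow_zero, one_mul]; simp only [← E_append]; rw [← E_nil]; exact E_eq (by decide +kernel)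
  zy := by simp only [pow_succ, pow_zero, one_mul]; simp only [← E_append]; rw [← E_nil]; exact E_eq (by decide +kernel)
  l2 := by simp only [← E_append]; rw [← E_nil]; exact E_eq (by decide +kernel)
  yl := by simp only [pow_succ, pow_zero, one_mul]; simp only [← E_append]; rw [← E_nil]; exact E_eq (by decide +kernel)
  zl := by simp only [pow_succ, pow_zero, one_mul]; simp only [← E_append]; rw [← E_nil]; exact E_eq (by decide +kernel)
  vz := by simp only [← E_append]; exact E_eq (by decide +kernel)
  vy := by simp only [← E_append]; exact E_eq (by decide +kernel)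
  vl := by simp only [← E_append]; exact E_eq (by decide +kernel)
  xz := by simp only [← E_append]; exact E_eq (by decide +kernel)
  xy := by simp only [← E_append]; exact E_eq (by decide +kernel)
  xl := by simp only [← E_append]; exact E_eq (by decide +kernel)
  az := by simp only [← E_append]; exact E_eq (by decide +kernel)
  aly := by simp only [← E_append]; exact E_eq (by decide +kernel)
  eq4 := by
    simp only [pow_succ, pow_zero, one_mul, E_inv]; simp only [← E_append]
    exact E_eq (by decide +kernel)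
  n1 := by
    simp only [E_inv]; simp only [← E_append]
    exact E_eq (by decide +kernel)

theorem z_ne : E wZ ≠ 1 := by
  intro h
  have h1 := congrArg (fun f : Equiv.Perm (Fin 416) => ((f 0 : Fin 416) : ℕ)) h
  have h2 : ∃ i : Fin 416, wk wZ i ≠ i := ⟨52, by decide +kernel⟩
  obtain ⟨i, hi⟩ := h2
  apply hi
  rw [← E_apply, h]
  rfl

/-- the presented group is simple of order 604800 -/
theorem P_facts : IsSimpleGroup Cfsg.Agent.J2Type.PresIso.P ∧
    Nat.card Cfsg.Agent.J2Type.PresIso.P = 604800 := by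
  have hs := Cfsg.Agent.SporadicA.J2Hundred.simple
  have hJ := Cfsg.Agent.SporadicA.J2Hundred.card_G
  have hgen := Cfsg.Agent.J2.HundredGens.HG_top
  unfold Cfsg.Agent.J2.HundredGens.HG at hgen
  obtain ⟨hfin, hcard⟩ := card_P
  have hsurj := hom_surjective Cfsg.Agent.J2.HundredGens.rels_G hgen
  have hcJ : Nat.card Cfsg.Agent.J2Type.PresIso.P = 604800 := by
    apply le_antisymm hcard
    rw [← hJ]
    exact Nat.card_le_card_of_surjective _ hsurj
  have hfG : Finite Cfsg.Agent.SporadicA.J2Hundred.G :=
    Nat.finite_of_card_ne_zero (by rw [hJ]; norm_num)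
  have hbij : Function.Bijective (hom Cfsg.Agent.J2.HundredGens.rels_G) := by
    rw [Nat.bijective_iff_surjective_and_card]
    exact ⟨hsurj, by rw [hcJ, hJ]⟩
  let eJ := MulEquiv.ofBijective (hom Cfsg.Agent.J2.HundredGens.rels_G) hbij
  exact ⟨eJ.isSimpleGroup, hcJ⟩

/-- the subgroup generated by the first five permutations -/
def Q : Subgroup (Equiv.Perm (Fin 416)) := Subgroup.closure (P '' {i | i < 5})

theorem E_mem_Q (w : List (Fin 6)) (hw : ∀ i ∈ w, i < 5) : E w ∈ Q := by
  refine Subgroup.list_prod_mem _ (fun g hg => ?_)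
  obtain ⟨i, hi, rfl⟩ := List.mem_map.1 hg
  exact Subgroup.subset_closure ⟨i, hw i hi, rfl⟩

theorem range_hom : (hom rels_perm).range = Q := by
  have h1 : (hom rels_perm).range = Subgroup.closure {E wV, E wX, E wA, E wZ, E wY, E wL} := by
    apply le_antisymm
    · rw [MonoidHom.range_eq_map, ← PresentedGroup.closure_range_of, MonoidHom.map_closure,
        Subgroup.closure_le]
      rintro _ ⟨_, ⟨i, rfl⟩, rfl⟩
      rw [SetLike.mem_coe, hom_of]
      apply Subgroup.subset_closure
      fin_cases i <;> simp [vals]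
    · rw [Subgroup.closure_le]
      rintro g (rfl | rfl | rfl | rfl | rfl | rfl)
      · exact ⟨PresentedGroup.of 0, hom_of rels_perm 0⟩
      · exact ⟨PresentedGroup.of 1, hom_of rels_perm 1⟩
      · exact ⟨PresentedGroup.of 2, hom_of rels_perm 2⟩
      · exact ⟨PresentedGroup.of 3, hom_of rels_perm 3⟩
      · exact ⟨PresentedGroup.of 4, hom_of rels_perm 4⟩
      · exact ⟨PresentedGroup.of 5, hom_of rels_perm 5⟩
  rw [h1]
  apply le_antisymm
  · rw [Subgroup.closure_le]
    rintro g (rfl | rfl | rfl | rfl | rfl | rfl) <;> exact E_mem_Q _ (by decide)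
  · unfold Q
    rw [Subgroup.closure_le]
    set C := Subgroup.closure {E wV, E wX, E wA, E wZ, E wY, E wL} with hC
    have hV : E wV ∈ C := Subgroup.subset_closure (by simp)
    have hA : E wA ∈ C := Subgroup.subset_closure (by simp)
    have hZ : E wZ ∈ C := Subgroup.subset_closure (by simp)
    have hY : E wY ∈ C := Subgroup.subset_closure (by simp)
    have hL : E wL ∈ C := Subgroup.subset_closure (by simp)
    have hP : ∀ i : Fin 6, P i = E [i] := fun i => by simp [E]
    rintro _ ⟨i, hi, rfl⟩
    have h0 : P 0 ∈ C := by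
      have : P 0 = E wZ * E wL * E wY * E wZ * E wL * E wY * E wZ := by
        rw [hP]; simp only [← E_append]; exact E_eq (by decide +kernel)
      rw [this]
      exact C.mul_mem (C.mul_mem (C.mul_mem (C.mul_mem (C.mul_mem (C.mul_mem hZ hL) hY) hZ) hL) hY) hZ
    have h1 : P 1 ∈ C := by
      have : P 1 = E wZ := by rw [hP]; rfl
      rw [this]; exact hZ
    have h2 : P 2 ∈ C := by
      have : P 2 = E wA * E wL * E wA := by
        rw [hP]; simp only [← E_append]; exact E_eq (by decide +kernel)
      rw [this]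
      exact C.mul_mem (C.mul_mem hA hL) hA
    have h3 : P 3 ∈ C := by
      have : P 3 = E wV := by rw [hP]; rfl
      rw [this]; exact hV
    have h4 : P 4 ∈ C := by
      have : P 4 = E wV * E wA * E wV := by
        rw [hP]; simp only [← E_append]; exact E_eq (by decide +kernel)
      rw [this]
      exact C.mul_mem (C.mul_mem hV hA) hV
    have key : ∀ i : Fin 6, i < 5 → i = 0 ∨ i = 1 ∨ i = 2 ∨ i = 3 ∨ i = 4 := by decide
    rcases key i hi with rfl | rfl | rfl | rfl | rfl
    · exact h0
    · exact h1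
    · exact h2
    · exact h3
    · exact h4

theorem card_Q : Nat.card Q = 604800 := by
  obtain ⟨hs, hc⟩ := P_facts
  have hker : (hom rels_perm).ker = ⊥ := by
    rcases hs.eq_bot_or_eq_top_of_normal (hom rels_perm).ker inferInstance with h1 | h1
    · exact h1
    · exfalso
      apply z_ne
      have h2 : (PresentedGroup.of 3 : Cfsg.Agent.J2Type.PresIso.P) ∈ (hom rels_perm).ker := by
        rw [h1]; exact Subgroup.mem_top _
      rw [MonoidHom.mem_ker, hom_of] at h2
      exact h2
  have hinj : Function.Injective (hom rels_perm) := (MonoidHom.ker_eq_bot_iff _).mp hker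
  rw [← range_hom, ← hc]
  exact (Nat.card_congr (MonoidHom.ofInjective hinj).toEquiv).symm

end Cfsg.Agent.H899.J2Words
end
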